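import Cfsg.Agent.H793.ZCenter
import Cfsg.Agent.H792.CenterSplit
set_option linter.all false

/-!
# The centre of `N_F(Q)`, `Q` normal in `S` and containing `Z(S)` (helper768)
-/

set_option autoImplicit false

namespace Cfsg.Agent.H768

open Cfsg Cfsg.FusionSystem Cfsg.Agent.H752 Cfsg.Agent.H793

variable {Ω : Type*} [Group Ω] {S : Subgroup Ω} {F : FusionSystem S} {Q : Subgroup Ω}
  {E : FusionSystem (normalizerIn S Q)}

/-- The centre of `N_F(Q)` for `Z(S) ≤ Q ⊴ S`. -/
theorem mem_center_normalizer_iff [Finite S] (hQS : Q ≤ S)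
    (hN : S ≤ Subgroup.normalizer (Q : Set Ω)) (hZ : S ⊓ Subgroup.centralizer (S : Set Ω) ≤ Q)
    (hE : F.IsNormalizerSystem Q E) (x : Ω) :
    x ∈ E.center ↔ x ∈ S ⊓ Subgroup.centralizer (S : Set Ω) ∧ Good F x Q := by
  have hNS : normalizerIn S Q = S := inf_eq_left.2 hN
  have hfinQ : Finite Q := H802.finite_of_le hQS
  have hZE : normalizerIn S Q ⊓ Subgroup.centralizer (normalizerIn S Q : Set Ω) ≤ Q := by
    rw [hNS]; exact hZ
  have haut : E.autGroup Q = F.autGroup Q := H753.autGroup_normalizerSystem hQS hE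
  rw [H792.mem_center_iff_of_isNormal (H753.isNormal_normalizerSystem hQS hE) hZE, haut]
  constructor
  · rintro ⟨hxQ, h⟩
    refine ⟨⟨hQS hxQ, Subgroup.mem_centralizer_iff.2 fun s hs => ?_⟩, ?_⟩
    · obtain ⟨α, hα⟩ := H802.exists_conjAut (hN hs)
      have hαS : α ∈ autInducedBy S Q := (H802.mem_autInducedBy_iff S Q α).2 ⟨s, hs, hα⟩
      have h1 := h α (H802.autInducedBy_le_autGroup F hQS hαS)
      rw [hα] at h1
      have h2 : s * x * s⁻¹ = x := h1
      calc s * x = s * x * s⁻¹ * s := by group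
        _ = x * s := by rw [h2]
    · intro f hf hfQ _
      obtain ⟨α, hα, hfα⟩ := hf.exists_aut hfQ
      rw [hfα x hxQ]
      exact h α hα
  · rintro ⟨hx, hg⟩
    refine ⟨hZ hx, fun α hα => ?_⟩
    have h1 := hg (ex fun x => ((α x : Q) : Ω)) ((mp_iff_autGroup hQS α).1 hα) (fun y hy => by
      rw [ex_apply _ hy]; exact (α _).2) (hZ hx)
    rwa [ex_apply _ (hZ hx)] at h1

theorem good_of_mem_center {x : Ω} (hZ : S ⊓ Subgroup.centralizer (S : Set Ω) ≤ Q)
    (hx : x ∈ F.center) : Good F x Q := by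
  rintro f ⟨φ, hφ, h1⟩ - hxJ
  have hle : F.center ≤ Q := fun y hy => hZ (H792.center_le_center F hy)
  rw [← h1 x hxJ]
  exact H792.apply_center hφ hx hxJ hle

/-- `Z(F) ≤ Z(N_F(Q))`. -/
theorem center_le_center_normalizer [Finite S] (hQS : Q ≤ S)
    (hN : S ≤ Subgroup.normalizer (Q : Set Ω)) (hZ : S ⊓ Subgroup.centralizer (S : Set Ω) ≤ Q)
    (hE : F.IsNormalizerSystem Q E) : F.center ≤ E.center := fun _ hx =>
  (mem_center_normalizer_iff hQS hN hZ hE _).2
    ⟨H792.center_le_center F hx, good_of_mem_center hZ hx⟩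

end Cfsg.Agent.H768
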